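import Mathlib.AlgebraicGeometry.Morphisms.Finite
import Mathlib.AlgebraicGeometry.Morphisms.ClosedImmersion
import Mathlib.AlgebraicGeometry.Pullbacks
import Mathlib.RingTheory.OrzechProperty
import Mathlib.RingTheory.Flat.Basic
import Mathlib.LinearAlgebra.TensorProduct.Basis

/-!
# A finite flat scheme sitting in a constant one of no bigger rank is constant
-/

set_option autoImplicit false
universe u

open CategoryTheory Limits AlgebraicGeometry
open scoped TensorProduct

namespace Groth.Agent.Lib.ConstSub76.Main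

variable {k : Type u} [Field k] {S H : Scheme.{u}} (sk : S ⟶ Spec (CommRingCat.of k))
  (B : Type u) [CommRing B] [Algebra k B]

/-- The constant scheme attached to an algebra. -/
noncomputable abbrev constObj : Scheme.{u} :=
  pullback (Spec.map (CommRingCat.ofHom (algebraMap k B))) sk

variable {sk B}

theorem mono_of_comp {X Y Z : Scheme.{u}} (f : X ⟶ Y) (g : Y ⟶ Z) [Mono (f ≫ g)] : Mono f :=
  mono_of_mono f g

/-- A surjection between free modules of the same finite rank, in the form needed below. -/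
theorem bijective_of_surjective {A N M : Type u} [CommRing A] [Nontrivial A]
    [AddCommGroup N] [Module A N] [AddCommGroup M] [Module A M] {m d : ℕ}
    (bN : Module.Basis (Fin d) A N) (bM : Module.Basis (Fin m) A M)
    (Φ : N →ₗ[A] M) (hΦ : Function.Surjective Φ) (hdm : d ≤ m) :
    Function.Bijective Φ ∧ d = m := by
  have h1 : Function.Surjective (bM.equivFun.toLinearMap ∘ₗ Φ ∘ₗ bN.equivFun.symm.toLinearMap) :=
    bM.equivFun.surjective.comp (hΦ.comp bN.equivFun.symm.surjective)
  have hd : d = m := le_antisymm hdm (le_of_fin_surjective A _ h1)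
  subst hd
  refine ⟨⟨?_, hΦ⟩, rfl⟩
  have h2 := OrzechProperty.injective_of_surjective_endomorphism _ h1
  intro x y hxy
  have := @h2 (bN.equivFun x) (bN.equivFun y) (by simp [hxy])
  exact bN.equivFun.injective this

/-- A closed immersion over `S` of a finite scheme with locally free pushforward of rank `m`
into a constant scheme of rank at most `m` is an isomorphism. -/
theorem isIso_of_rank (h : H ⟶ S) [IsFinite h] (φ : H ⟶ constObj sk B) [IsClosedImmersion φ]
    (hφ : φ ≫ pullback.snd _ _ = h) [Module.Finite k B] (m : ℕ)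
    (hbasis : ∀ x : S, ∃ V : S.Opens, IsAffineOpen V ∧ x ∈ V ∧
      letI := (h.app V).hom.toAlgebra
      Nonempty (Module.Basis (Fin m) Γ(S, V) Γ(H, h ⁻¹ᵁ V)))
    (hle : Module.finrank k B ≤ m) :
    IsIso φ ∧ ∀ _ : S, Module.finrank k B = m := by
  choose V hV hxV hb using hbasis
  let jB := Spec.map (CommRingCat.ofHom (algebraMap k B))
  let χ : ∀ x, CommRingCat.of k ⟶ Γ(S, V x) := fun x => Spec.preimage ((hV x).fromSpec ≫ sk)
  have hχ : ∀ x, Spec.map (χ x) = (hV x).fromSpec ≫ sk := fun x => Spec.map_preimage _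
  let gV : ∀ x, pullback (Spec.map (χ x)) jB ⟶ constObj sk B := fun x =>
    pullback.lift (pullback.snd _ _) (pullback.fst _ _ ≫ (hV x).fromSpec) (by
      rw [Category.assoc, ← hχ x]
      exact pullback.condition.symm)
  have hgV : ∀ x, IsPullback (gV x) (pullback.fst _ _) (pullback.snd jB sk) (hV x).fromSpec := fun x => by
    have h1 : IsPullback (gV x ≫ pullback.fst jB sk) (pullback.fst _ _) jB ((hV x).fromSpec ≫ sk) := by
      rw [show gV x ≫ pullback.fst jB sk = pullback.snd (Spec.map (χ x)) jB from pullback.lift_fst _ _ _,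
        ← hχ x]
      exact (IsPullback.of_hasPullback (Spec.map (χ x)) jB).flip
    exact IsPullback.of_right h1 (pullback.lift_snd _ _ _) (IsPullback.of_hasPullback jB sk)
  have hopen : ∀ x, IsOpenImmersion (gV x) := fun x =>
    MorphismProperty.of_isPullback (P := @IsOpenImmersion) (hgV x).flip inferInstance
  let 𝒰 : (constObj sk B).OpenCover := Scheme.Cover.mkOfCovers S _ gV (fun z => by
    let x := (pullback.snd jB sk) z
    have hr : Set.range ((constObj sk B).fromSpecResidueField z ≫ pullback.snd jB sk) ⊆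
        Set.range (hV x).fromSpec := by
      rw [(hV x).range_fromSpec]
      rintro _ ⟨y, rfl⟩
      rw [Scheme.Hom.comp_apply, Scheme.fromSpecResidueField_apply]
      exact hxV x
    let l := (hgV x).lift ((constObj sk B).fromSpecResidueField z)
      (IsOpenImmersion.lift (hV x).fromSpec _ hr) (IsOpenImmersion.lift_fac _ _ _).symm
    refine ⟨x, l (IsLocalRing.closedPoint _), ?_⟩
    rw [← Scheme.Hom.comp_apply, (hgV x).lift_fst, Scheme.fromSpecResidueField_apply]) hopen
  suffices key : ∀ x : S, IsIso (pullback.snd φ (gV x)) ∧ Module.finrank k B = m from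
    ⟨IsZariskiLocalAtTarget.of_openCover (P := MorphismProperty.isomorphisms Scheme.{u}) 𝒰 fun x => (key x).1,
      fun x => (key x).2⟩
  intro x
  have hW : IsAffineOpen (h ⁻¹ᵁ V x) := (hV x).preimage h
  have hsq : Spec.map (h.app (V x)) ≫ (hV x).fromSpec = hW.fromSpec ≫ h := by
    rw [Scheme.Hom.app_eq_appLE]
    exact IsAffineOpen.SpecMap_appLE_fromSpec h (hV x) hW le_rfl
  let q : Spec Γ(H, h ⁻¹ᵁ V x) ⟶ pullback (Spec.map (χ x)) jB :=
    pullback.lift (Spec.map (h.app (V x))) (hW.fromSpec ≫ φ ≫ pullback.fst jB sk) (by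
      rw [hχ, reassoc_of% hsq, Category.assoc, Category.assoc, pullback.condition, reassoc_of% hφ])
  have hq : q ≫ gV x = hW.fromSpec ≫ φ := by
    refine pullback.hom_ext ?_ ?_
    · rw [Category.assoc, show gV x ≫ pullback.fst _ sk = pullback.snd (Spec.map (χ x)) jB from pullback.lift_fst _ _ _,
        show q ≫ pullback.snd _ _ = _ from pullback.lift_snd _ _ _, Category.assoc]
    · rw [Category.assoc, show gV x ≫ pullback.snd _ sk = pullback.fst (Spec.map (χ x)) jB ≫ (hV x).fromSpec from pullback.lift_snd _ _ _,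
        ← Category.assoc q, show q ≫ pullback.fst _ _ = _ from pullback.lift_fst _ _ _, hsq, Category.assoc, hφ]
  haveI : Mono q := by
    haveI : Mono (q ≫ gV x) := by rw [hq]; infer_instance
    exact mono_of_mono q (gV x)
  haveI : IsFinite q := by
    haveI : IsFinite (q ≫ pullback.fst _ _) := by
      rw [show q ≫ pullback.fst _ _ = Spec.map (h.app (V x)) from pullback.lift_fst _ _ _]
      exact (IsFinite.SpecMap_iff _).2 (IsFinite.finite_app (f := h) (V x) (hV x))
    exact IsFinite.of_comp q (pullback.fst _ _)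
  haveI hqc : IsClosedImmersion q := (IsClosedImmersion.iff_isFinite_and_mono q).2 ⟨inferInstance, inferInstance⟩
  letI algA : Algebra k Γ(S, V x) := (χ x).hom.toAlgebra
  letI algE : Algebra Γ(S, V x) Γ(H, h ⁻¹ᵁ V x) := (h.app (V x)).hom.toAlgebra
  let ψ : CommRingCat.of (Γ(S, V x) ⊗[k] B) ⟶ Γ(H, h ⁻¹ᵁ V x) :=
    Spec.preimage (q ≫ (pullbackSpecIso k Γ(S, V x) B).hom)
  have hψmap : Spec.map ψ = q ≫ (pullbackSpecIso k Γ(S, V x) B).hom := Spec.map_preimage _
  have hψA : CommRingCat.ofHom (Algebra.TensorProduct.includeLeftRingHom) ≫ ψ = h.app (V x) := by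
    apply Spec.map_injective
    rw [Spec.map_comp, hψmap, Category.assoc, pullbackSpecIso_hom_fst]
    exact pullback.lift_fst _ _ _
  have hψsurj : Function.Surjective ψ.hom := by
    haveI : IsClosedImmersion (Spec.map ψ) := by
      rw [hψmap]
      exact inferInstanceAs (IsClosedImmersion (q ≫ (pullbackSpecIso k Γ(S, V x) B).hom))
    have h2 := (IsClosedImmersion.isAffine_surjective_of_isAffine (Spec.map ψ)).2
    intro e
    obtain ⟨a, ha⟩ := h2 ((Scheme.ΓSpecIso _).inv e)
    refine ⟨(Scheme.ΓSpecIso _).hom a, ?_⟩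
    have h3 := congr($(Scheme.ΓSpecIso_naturality ψ).hom a)
    simp only [CommRingCat.hom_comp, RingHom.comp_apply] at h3
    rw [← h3]
    erw [ha]
    simp
  let Φ : Γ(S, V x) ⊗[k] B →ₗ[Γ(S, V x)] Γ(H, h ⁻¹ᵁ V x) :=
    { toFun := ψ.hom
      map_add' := map_add _
      map_smul' := fun a z => by
        rw [Algebra.smul_def, map_mul, Algebra.smul_def, RingHom.id_apply]
        congr 1
        exact RingHom.congr_fun (congrArg CommRingCat.Hom.hom hψA) a }
  haveI : Nontrivial Γ(S, V x) := by
    haveI : Nonempty (V x) := ⟨⟨x, hxV x⟩⟩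
    infer_instance
  obtain ⟨bE⟩ := hb x
  obtain ⟨hbij, hrank⟩ :=
    bijective_of_surjective ((Module.finBasis k B).baseChange Γ(S, V x)) bE Φ hψsurj hle
  haveI : IsIso ψ := (ConcreteCategory.isIso_iff_bijective ψ).2 hbij
  haveI : IsIso q := by
    haveI : IsIso (q ≫ (pullbackSpecIso k Γ(S, V x) B).hom) := by rw [← hψmap]; infer_instance
    exact IsIso.of_isIso_comp_right q (pullbackSpecIso k Γ(S, V x) B).hom
  have hp : IsPullback q hW.fromSpec (gV x) φ := by
    refine IsOpenImmersion.isPullback q hW.fromSpec (gV x) φ hq.symm ?_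
    apply le_antisymm
    · rintro z ⟨p, hp⟩
      rw [IsAffineOpen.opensRange_fromSpec]
      change h z ∈ V x
      rw [← hφ, Scheme.Hom.comp_apply, ← hp, ← Scheme.Hom.comp_apply, (hgV x).w, Scheme.Hom.comp_apply,
        ← SetLike.mem_coe, ← (hV x).range_fromSpec]
      exact ⟨_, rfl⟩
    · rintro _ ⟨e, rfl⟩
      exact ⟨q e, by rw [← Scheme.Hom.comp_apply, hq, Scheme.Hom.comp_apply]⟩
  refine ⟨?_, hrank⟩
  rw [← hp.flip.isoPullback_inv_snd]
  infer_instance

end Groth.Agent.Lib.ConstSub76.Main
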