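import Groth.Agent.Lib.Tori.BaseChange
import Mathlib.AlgebraicGeometry.AlgClosed.Basic

/-!
# Base change along a section of the structure map
-/

set_option autoImplicit false
universe u

open CategoryTheory MonoidalCategory CartesianMonoidalCategory MonObj GrpObj AlgebraicGeometry
open Groth.Agent.Lib.Tori.BaseChange

namespace Groth.Agent.Lib.ConstSub76.Retr

/-- Pullback along an identity is the identity, compatibly with group structures. -/
theorem exists_id {T : Scheme.{u}} {g : T ⟶ T} (hg : g = 𝟙 T) :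
    ∃ β : Over.pullback g ≅ 𝟭 (Over T), ∀ (X : Over T) [GrpObj X], IsMonHom (M := Red.bc g X) (N := X) (β.hom.app X) := by
  subst hg
  exact ⟨Over.pullbackId, fun X _ => isMonHom_overIso (bcId X)⟩

/-- Pullback along `π` followed by pullback along a section of `π` is the identity. -/
theorem exists_retr {S T : Scheme.{u}} (π : S ⟶ T) (s : T ⟶ S) (h : s ≫ π = 𝟙 T) :
    ∃ α : Over.pullback π ⋙ Over.pullback s ≅ 𝟭 (Over T),
      ∀ (X : Over T) [GrpObj X], IsMonHom (M := Red.bc s (Red.bc π X)) (N := X) (α.hom.app X) := by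
  obtain ⟨β, hβ⟩ := exists_id h
  refine ⟨(Over.pullbackComp s π).symm ≪≫ β, fun X _ => ?_⟩
  haveI := hβ X
  haveI : IsMonHom (M := Red.bc s (Red.bc π X)) (N := Red.bc (s ≫ π) X)
      ((Over.pullbackComp s π).inv.app X) :=
    inferInstanceAs (IsMonHom (overIso (bcComp s π X).symm).hom)
  show IsMonHom (M := Red.bc s (Red.bc π X)) (N := X)
    (CategoryStruct.comp (Y := Red.bc (s ≫ π) X) ((Over.pullbackComp s π).inv.app X) (β.hom.app X))
  infer_instance

/-- A scheme of finite type over an algebraically closed field has a rational point. -/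
theorem exists_ratPoint {k : Type u} [Field k] [IsAlgClosed k] {S : Scheme.{u}}
    (f : S ⟶ Spec (CommRingCat.of k)) [LocallyOfFiniteType f] [Nonempty S] :
    ∃ s : Spec (CommRingCat.of k) ⟶ S, s ≫ f = 𝟙 _ := by
  haveI : JacobsonSpace S := LocallyOfFiniteType.jacobsonSpace f
  obtain ⟨x, -, hx⟩ := nonempty_inter_closedPoints (Z := (Set.univ : Set S)) Set.univ_nonempty
    isOpen_univ.isLocallyClosed
  exact ⟨((pointEquivClosedPoint f).symm ⟨x, hx⟩).1, ((pointEquivClosedPoint f).symm ⟨x, hx⟩).2⟩

end Groth.Agent.Lib.ConstSub76.Retr
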